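import Groth.Agent.Zar5.Stein
import Mathlib.AlgebraicGeometry.Morphisms.QuasiCompact
import Mathlib.AlgebraicGeometry.Normalization
import Mathlib.RingTheory.Ideal.GoingUp
import Mathlib.Topology.NoetherianSpace

/-!
# Idempotents of a fibre of a proper morphism lift to neighbourhoods
-/

set_option autoImplicit false
set_option linter.style.haveILetI false
set_option backward.isDefEq.respectTransparency false
set_option backward.isDefEq.respectTransparency.types false

universe u

open CategoryTheory AlgebraicGeometry TopologicalSpace Opposite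

namespace Groth.Agent.IdemLift

/-- An element congruent to an idempotent modulo nilpotents yields it by a universal formula. -/
lemma exists_eval_eq {R : Type u} [CommRing R] {u e : R} (he : IsIdempotentElem e)
    (h : IsNilpotent (u - e)) : ∃ N : ℕ, 1 - (1 - u ^ N) ^ N = e := by
  obtain ⟨N, hN⟩ := h
  refine ⟨N + 1, ?_⟩
  have hN' : (u - e) ^ (N + 1) = 0 := by rw [pow_succ, hN, zero_mul]
  have he' : IsIdempotentElem (1 - e) := he.one_sub
  have hee : e * e = e := he
  have ha : u ^ (N + 1) * (1 - e) = 0 := by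
    have hu : u * (1 - e) = (u - e) * (1 - e) := by linear_combination hee.symm
    have := congrArg (· ^ (N + 1)) hu
    simp only [mul_pow, he'.pow_succ_eq, hN', zero_mul] at this
    exact this
  obtain ⟨c, hc⟩ := one_sub_dvd_one_sub_pow u (N + 1)
  have hb : (1 - u ^ (N + 1)) ^ (N + 1) * e = 0 := by
    have hu : (1 - u ^ (N + 1)) * e = -(c * e) * (u - e) := by
      rw [hc]; linear_combination (-c) * hee
    have := congrArg (· ^ (N + 1)) hu
    simp only [mul_pow, he.pow_succ_eq, hN', mul_zero] at this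
    exact this
  have hd : (1 - u ^ (N + 1)) ^ (N + 1) * (1 - e) = 1 - e := by
    have hu : (1 - u ^ (N + 1)) * (1 - e) = 1 - e := by linear_combination (-1 : R) * ha
    have := congrArg (· ^ (N + 1)) hu
    simp only [mul_pow, he'.pow_succ_eq] at this
    exact this
  linear_combination (-1 : R) * (hb + hd)

/-- Separating two finite sets of primes of an integral extension lying over the same prime. -/
lemma exists_separating {A B ι : Type*} [CommRing A] [CommRing B] (φ : A →+* B) (hφ : φ.IsIntegral)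
    (p : Ideal A) [p.IsPrime] (q : ι → Ideal B) (S₁ S₀ : Finset ι) (hq : ∀ i, (q i).IsPrime)
    (hp : ∀ i, (q i).comap φ = p) (hne : ∀ i ∈ S₁, ∀ j ∈ S₀, q i ≠ q j) :
    ∃ r ∉ p, ∃ b : B, (∀ i ∈ S₁, b - φ r ∈ q i) ∧ ∀ j ∈ S₀, b ∈ q j := by
  letI := φ.toAlgebra
  haveI : Algebra.IsIntegral A B := ⟨hφ⟩
  by_contra hcon
  push_neg at hcon
  have hle : (S₁.inf q ⊔ S₀.inf q).comap φ ≤ p := by
    intro r hr
    by_contra hrp
    obtain ⟨y, hy, z, hz, hyz⟩ := Submodule.mem_sup.1 (Ideal.mem_comap.1 hr)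
    obtain ⟨j, hj, hzj⟩ := hcon r hrp z (fun i hi => by
      have h1 : y ∈ q i := (Finset.inf_le hi : S₁.inf q ≤ q i) hy
      have : z - φ r = -y := by rw [← hyz]; ring
      rw [this]; exact (q i).neg_mem h1)
    exact hzj ((Finset.inf_le hj : S₀.inf q ≤ q j) hz)
  obtain ⟨Q, hIQ, hQ, hQp⟩ := Ideal.exists_ideal_over_prime_of_isIntegral p _ hle
  have key : ∀ T : Finset ι, T.inf q ≤ Q → ∃ i ∈ T, q i = Q := by
    intro T hT
    obtain ⟨i, hi, hiQ⟩ := (Ideal.IsPrime.inf_le' hQ).1 hT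
    refine ⟨i, hi, le_antisymm hiQ fun x hx => ?_⟩
    by_contra hxi
    haveI := hq i
    have hlt := Ideal.comap_lt_comap_of_integral_mem_sdiff (R := A) hiQ ⟨hx, hxi⟩ (hφ x)
    rw [RingHom.algebraMap_toAlgebra, hp i] at hlt
    rw [RingHom.algebraMap_toAlgebra] at hQp
    rw [hQp] at hlt
    exact lt_irrefl _ hlt
  obtain ⟨i, hi, hqi⟩ := key S₁ (le_sup_left.trans hIQ)
  obtain ⟨j, hj, hqj⟩ := key S₀ (le_sup_right.trans hIQ)
  exact hne i hi j hj (hqi.trans hqj.symm)

/-- Local rings have only trivial idempotents. -/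
lemma eq_zero_or_one_of_idem {R : Type*} [CommRing R] [IsLocalRing R] {a : R}
    (h : IsIdempotentElem a) : a = 0 ∨ a = 1 := by
  rcases IsLocalRing.isUnit_or_isUnit_one_sub_self a with hu | hu
  · exact Or.inr (hu.mul_left_cancel (h.eq.trans (mul_one a).symm))
  · exact Or.inl (hu.mul_left_cancel (h.one_sub_mul_self.trans (mul_zero _).symm))

lemma mem_basicOpen_iff {N : Scheme.{u}} {U : N.Opens} (hU : IsAffineOpen U) (x : U) (b : Γ(N, U)) :
    (x : N) ∈ N.basicOpen b ↔ b ∉ (hU.primeIdealOf x).asIdeal := by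
  have h := hU.fromSpec_preimage_basicOpen b
  rw [← hU.fromSpec_primeIdealOf x]
  show hU.primeIdealOf x ∈ hU.fromSpec ⁻¹ᵁ N.basicOpen b ↔ _
  rw [h]
  exact Iff.rfl

variable {X S : Scheme.{u}} (f : X ⟶ S) [IsProper f] (s : S)

/-- Idempotent functions on a fibre of a proper morphism lift to a neighbourhood. -/
theorem exists_lift (e : Γ(f.fiber s, ⊤)) (he : IsIdempotentElem e) :
    ∃ (V : S.Opens) (_ : s ∈ V) (t : Γ(X, f ⁻¹ᵁ V)),
      (f.fiberι s).app (f ⁻¹ᵁ V) t =
        (f.fiber s).presheaf.map (homOfLE (le_top : (f.fiberι s) ⁻¹ᵁ (f ⁻¹ᵁ V) ≤ ⊤)).op e := by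
  classical
  haveI := Zar5.isProper_toNormalization f
  haveI := Zar5.geometricallyConnected_toNormalization f
  let N := f.normalization
  let ν := f.fromNormalization
  let g := f.toNormalization
  let ι := f.fiberι s
  have hgν : g ≫ ν = f := f.toNormalization_fromNormalization
  obtain ⟨_, ⟨(V : S.Opens), hV, rfl⟩, hsV, -⟩ :=
    S.isBasis_affineOpens.exists_subset_of_mem_open (show s ∈ (⊤ : S.Opens) from trivial) (⊤ : S.Opens).2
  let U := ν ⁻¹ᵁ V
  have hU : IsAffineOpen U := hV.preimage ν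
  have hιs : ∀ z : f.fiber s, f (ι z) = s := fun z => (f.range_fiberι s).le ⟨z, rfl⟩
  let h := ι ≫ g
  have hνh : ∀ z, ν (h z) = s := fun z => by
    rw [← Scheme.Hom.comp_apply, Category.assoc, hgν, Scheme.Hom.comp_apply]
    exact hιs z
  have hUtop : (⊤ : (f.fiber s).Opens) ≤ h ⁻¹ᵁ U := fun z _ => by
    change ν (h z) ∈ V
    rw [hνh]; exact hsV
  let q : f.fiber s → Ideal Γ(N, U) := fun z => (hU.primeIdealOf ⟨h z, hUtop trivial⟩).asIdeal
  let p := (hV.primeIdealOf ⟨s, hsV⟩).asIdeal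
  have hp : ∀ z, (q z).comap (ν.app V).hom = p := fun z => by
    have := congrArg PrimeSpectrum.asIdeal
      (IsAffineOpen.comap_primeIdealOf_appLE (f := ν) (x := h z) V hV U hU le_rfl (hUtop trivial))
    rw [PrimeSpectrum.comap_asIdeal] at this
    rw [← Scheme.Hom.app_eq_appLE] at this
    exact this.trans (congrArg (fun v => (hV.primeIdealOf v).asIdeal) (Subtype.ext (hνh z)))
  have hint : (ν.app V).hom.IsIntegral := ν.isIntegral_app V hV
  haveI : LocallyOfFiniteType (f.fiberToSpecResidueField s) :=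
    MorphismProperty.pullback_snd _ _ inferInstance
  haveI : IsLocallyNoetherian (f.fiber s) :=
    LocallyOfFiniteType.isLocallyNoetherian (f.fiberToSpecResidueField s)
  haveI : AlgebraicGeometry.IsNoetherian (f.fiber s) := {}
  have hspec : ∀ z w : f.fiber s, z ⤳ w → q z = q w := fun z w hzw => by
    have hle : q z ≤ q w := by
      have h1 : h z ⤳ h w := hzw.map h.continuous
      have h2 : hU.primeIdealOf ⟨h z, hUtop trivial⟩ ⤳ hU.primeIdealOf ⟨h w, hUtop trivial⟩ := by
        rw [← hU.fromSpec.isOpenEmbedding.isInducing.specializes_iff]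
        rwa [hU.fromSpec_primeIdealOf, hU.fromSpec_primeIdealOf]
      exact (PrimeSpectrum.le_iff_specializes _ _).2 h2
    refine le_antisymm hle fun x hx => ?_
    by_contra hxz
    letI := (ν.app V).hom.toAlgebra
    haveI : (q z).IsPrime := (hU.primeIdealOf ⟨h z, hUtop trivial⟩).isPrime
    have hlt := Ideal.comap_lt_comap_of_integral_mem_sdiff (R := Γ(S, V)) hle ⟨hx, hxz⟩ (hint x)
    rw [RingHom.algebraMap_toAlgebra, hp z, hp w] at hlt
    exact lt_irrefl _ hlt
  have hfin : (Set.range q).Finite := by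
    refine (NoetherianSpace.finite_irreducibleComponents.image
      (fun C => if hC : C ∈ irreducibleComponents ↥(f.fiber s) then q hC.1.genericPoint else ⊥)).subset ?_
    rintro _ ⟨z, rfl⟩
    have hC : irreducibleComponent z ∈ irreducibleComponents ↥(f.fiber s) :=
      irreducibleComponent_mem_irreducibleComponents z
    refine ⟨_, hC, ?_⟩
    dsimp only
    rw [dif_pos hC]
    exact hspec _ _ ((hC.1.isGenericPoint_genericPoint isClosed_irreducibleComponent).specializes
      mem_irreducibleComponent)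
  let D₁ : Set (f.fiber s) := (f.fiber s).basicOpen e
  have hsep : ∀ z ∈ D₁, ∀ w, w ∉ D₁ → q z ≠ q w := by
    intro z hz w hw hzw
    have hn : h z = h w := by
      have := congrArg hU.fromSpec (show hU.primeIdealOf ⟨h z, hUtop trivial⟩ =
        hU.primeIdealOf ⟨h w, hUtop trivial⟩ from PrimeSpectrum.ext hzw)
      rwa [hU.fromSpec_primeIdealOf, hU.fromSpec_primeIdealOf] at this
    have hsub : g ⁻¹' {h z} ⊆ Set.range ι := fun x (hx : g x = h z) => by
      rw [f.range_fiberι]
      change f x = s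
      rw [← hgν, Scheme.Hom.comp_apply, hx, hνh]
    have hconn : _root_.IsPreconnected (ι ⁻¹' (g ⁻¹' {h z})) := by
      rw [← ι.isEmbedding.isInducing.isPreconnected_image, Set.image_preimage_eq_of_subset hsub]
      exact (g.isConnected_preimage_singleton _).isPreconnected
    have hclop : IsClopen D₁ := by
      refine ⟨⟨?_⟩, ((f.fiber s).basicOpen e).2⟩
      have hcompl : D₁ᶜ = ((f.fiber s).basicOpen (1 - e) : Set _) := by
        ext v
        simp only [D₁, Set.mem_compl_iff, SetLike.mem_coe, Scheme.mem_basicOpen_top, map_sub, map_one]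
        have hv : IsIdempotentElem ((f.fiber s).presheaf.germ ⊤ v trivial e) := he.map _
        rcases eq_zero_or_one_of_idem hv with h0 | h0 <;> simp [h0]
      rw [hcompl]
      exact ((f.fiber s).basicOpen (1 - e)).2
    exact hw (hconn.subset_isClopen hclop ⟨z, rfl, hz⟩ (show g (ι w) = h z from hn.symm))
  haveI : Fintype (Set.range q) := hfin.fintype
  obtain ⟨r, hr, b, hb₁, hb₀⟩ := exists_separating (ν.app V).hom hint p
    (fun i : Set.range q => (i : Ideal Γ(N, U)))
    (Finset.univ.filter fun i => ∃ z ∈ D₁, q z = i.1)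
    (Finset.univ.filter fun i => ∃ z, z ∉ D₁ ∧ q z = i.1)
    (by rintro ⟨_, z, rfl⟩; exact (hU.primeIdealOf ⟨h z, hUtop trivial⟩).isPrime)
    (by rintro ⟨_, z, rfl⟩; exact hp z)
    (by
      intro i hi j hj
      obtain ⟨-, z, hz, hzi⟩ := Finset.mem_filter.1 hi
      obtain ⟨-, w, hw, hwj⟩ := Finset.mem_filter.1 hj
      rw [← hzi, ← hwj]
      exact hsep z hz w hw)
  have hb₁' : ∀ z ∈ D₁, b - ν.app V r ∈ q z := fun z hz =>
    hb₁ ⟨q z, z, rfl⟩ (Finset.mem_filter.2 ⟨Finset.mem_univ _, z, hz, rfl⟩)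
  have hb₀' : ∀ w, w ∉ D₁ → b ∈ q w := fun w hw =>
    hb₀ ⟨q w, w, rfl⟩ (Finset.mem_filter.2 ⟨Finset.mem_univ _, w, hw, rfl⟩)
  let V' := S.basicOpen r
  have hsV' : s ∈ V' := (mem_basicOpen_iff hV ⟨s, hsV⟩ r).2 hr
  let W := f ⁻¹ᵁ V'
  have eWU : W ≤ g ⁻¹ᵁ U := fun x (hx : f x ∈ V') => by
    change ν (g x) ∈ V
    rw [← Scheme.Hom.comp_apply, hgν]
    exact S.basicOpen_le r hx
  have eTW : (⊤ : (f.fiber s).Opens) ≤ ι ⁻¹ᵁ W := fun z _ => by
    change f (ι z) ∈ V'
    rw [hιs]; exact hsV'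
  let Φ := h.appLE U ⊤ hUtop
  let Ψ := ι.appLE W ⊤ eTW
  let gW := g.appLE U W eWU
  have hΦΨ : ∀ c, Ψ (gW c) = Φ c := fun c => by
    change (g.appLE U W eWU ≫ ι.appLE W ⊤ eTW) c = _
    rw [Scheme.Hom.appLE_comp_appLE]
  have hrW : IsUnit (gW (ν.app V r)) := by
    have h₁ : gW (ν.app V r) = f.appLE V W (fun x hx => S.basicOpen_le r hx) r := by
      change (ν.app V ≫ g.appLE U W eWU) r = _
      rw [Scheme.Hom.app_eq_appLE, Scheme.Hom.appLE_comp_appLE]
      simp only [hgν]
    rw [h₁, ← Scheme.Hom.map_appLE f (U := V') le_rfl (homOfLE (S.basicOpen_le r)).op, CommRingCat.comp_apply]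
    exact (RingedSpace.isUnit_res_basicOpen S.toRingedSpace r).map _
  obtain ⟨v, hv⟩ := hrW
  let t₀ : Γ(X, W) := gW b * (↑v⁻¹ : Γ(X, W))
  have hkey : ∀ z, z ∉ (f.fiber s).basicOpen (Ψ t₀ - e) := by
    intro z hz
    rw [Scheme.mem_basicOpen_top, map_sub] at hz
    have hc : ∀ c, c ∈ q z → ¬ IsUnit ((f.fiber s).presheaf.germ ⊤ z trivial (Φ c)) := fun c hc hu => by
      have hmem : z ∈ (f.fiber s).basicOpen (Φ c) := (Scheme.mem_basicOpen_top _ _ z).2 hu
      rw [Scheme.basicOpen_appLE] at hmem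
      exact (mem_basicOpen_iff hU ⟨h z, hUtop trivial⟩ c).1 hmem.2 hc
    let G := (f.fiber s).presheaf.germ ⊤ z trivial
    have hidem : IsIdempotentElem (G e) := he.map _
    have hR : Φ (ν.app V r) = Ψ (v : Γ(X, W)) := by rw [hv, hΦΨ]
    have hinv : G (Ψ (v : Γ(X, W))) * G (Ψ (↑v⁻¹ : Γ(X, W))) = 1 := by
      rw [← map_mul, ← map_mul, Units.mul_inv, map_one, map_one]
    have ht : G (Ψ t₀) = G (Φ b) * G (Ψ (↑v⁻¹ : Γ(X, W))) := by
      simp only [t₀, map_mul, hΦΨ]
    rcases eq_zero_or_one_of_idem hidem with h0 | h1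
    · have hw : z ∉ D₁ := fun hD => by
        have := (Scheme.mem_basicOpen_top _ _ z).1 hD
        simp [G, h0] at this
      change IsUnit (G (Ψ t₀) - G e) at hz
      rw [h0, sub_zero, ht] at hz
      exact hc b (hb₀' z hw) (isUnit_of_mul_isUnit_left hz)
    · have hD : z ∈ D₁ := (Scheme.mem_basicOpen_top _ _ z).2 (by
        change IsUnit (G e)
        rw [h1]; exact isUnit_one)
      change IsUnit (G (Ψ t₀) - G e) at hz
      refine hc (b - ν.app V r) (hb₁' z hD) ?_
      change IsUnit (G (Φ (b - ν.app V r)))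
      have heq : G (Φ (b - ν.app V r)) = (G (Ψ t₀) - G e) * G (Ψ (v : Γ(X, W))) := by
        rw [map_sub, map_sub, hR, ht, h1]
        linear_combination (- G (Φ b)) * hinv
      rw [heq]
      exact hz.mul ((v.isUnit.map _).map _)
  have hnil : IsNilpotent (Ψ t₀ - e) :=
    (Scheme.isNilpotent_iff_basicOpen_eq_bot _).2 (eq_bot_iff.2 fun z hz => absurd hz (hkey z))
  obtain ⟨n, hn⟩ := exists_eval_eq he hnil
  refine ⟨V', hsV', 1 - (1 - t₀ ^ n) ^ n, ?_⟩
  have hmap : Ψ (1 - (1 - t₀ ^ n) ^ n) = e := by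
    simp only [map_sub, map_one, map_pow, hn]
  rw [← hmap]
  change _ = (ι.appLE W ⊤ eTW ≫ (f.fiber s).presheaf.map (homOfLE le_top).op) _
  rw [Scheme.Hom.appLE_map, ← Scheme.Hom.app_eq_appLE]

end Groth.Agent.IdemLift
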